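import Groth.Agent.RGLib.Lim8LocFree
import Groth.Agent.RGLib.Lim8GenP
import Groth.Agent.KRR7.PullModel
import Groth.Agent.SlopeBound.Basic
import Mathlib.AlgebraicGeometry.Geometrically.Irreducible
import Groth.Prelude.Def_FGA

/-! Freeness near the generic points of the fibres is limit preserving. -/

set_option autoImplicit false
set_option backward.isDefEq.respectTransparency false
set_option backward.isDefEq.respectTransparency.types false
set_option linter.style.haveILetI false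

universe u

open CategoryTheory CategoryTheory.Limits AlgebraicGeometry Opposite TopologicalSpace

namespace Groth.Agent.FreeGenPts

open Groth.Agent Groth.Agent.RGLib

variable {X Y : Scheme.{u}}

theorem near_iff (F : X.Modules) (p : ℕ) (x : X) :
    FlatFun.IsFreeOfRankNear F p x ↔
      ∃ U : X.Opens, x ∈ U ∧ FlatMod.IsFinLocFreeOfRank p ((Scheme.Modules.pullback U.ι).obj F) := by
  constructor
  · rintro ⟨U, hx, ⟨e⟩⟩
    exact ⟨U, hx, (ConsPropLib.isFinLocFreeOfRank_iso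
      ((Scheme.Modules.restrictFunctorIsoPullback U.ι).app F)).1
      ((ConsPropLib.isFinLocFreeOfRank_iso e).2 (SlopeBound.isFinLocFreeOfRank_freeMod (X := U.toScheme) p))⟩
  · rintro ⟨U, hx, h⟩
    obtain ⟨W, hxW, ⟨e⟩⟩ := (ConsPropLib.isFinLocFreeOfRank_iso
      ((Scheme.Modules.restrictFunctorIsoPullback U.ι).app F)).2 h ⟨x, hx⟩
    let q : ((U.ι ''ᵁ W : X.Opens) : Scheme.{u}) ⟶ W := (U.ι.isoImage W).inv
    have hq : q ≫ W.ι ≫ U.ι = (U.ι ''ᵁ W).ι := by simp [q]
    exact ⟨U.ι ''ᵁ W, ⟨⟨x, hx⟩, hxW, rfl⟩,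
      ⟨(Scheme.Modules.restrictFunctorCongr hq.symm).app F ≪≫ (QCoh.restrictRestrict F q (W.ι ≫ U.ι)).symm ≪≫
        (Scheme.Modules.restrictFunctor q).mapIso ((QCoh.restrictRestrict F W.ι U.ι).symm ≪≫ e) ≪≫
        QCoh.freeModRestrict _ p⟩⟩

/-- Isomorphism of double pullbacks along equal composites. -/
noncomputable def pullIso {A B C D : Scheme.{u}} (F : D.Modules) (a : A ⟶ B) (b : B ⟶ D) (a' : A ⟶ C) (b' : C ⟶ D)
    (h : a ≫ b = a' ≫ b') :
    (Scheme.Modules.pullback a).obj ((Scheme.Modules.pullback b).obj F) ≅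
      (Scheme.Modules.pullback a').obj ((Scheme.Modules.pullback b').obj F) :=
  (Scheme.Modules.pullbackComp a b ≪≫ Scheme.Modules.pullbackCongr h ≪≫
    (Scheme.Modules.pullbackComp a' b').symm).app F

theorem near_pullback (g : Y ⟶ X) (F : X.Modules) (p : ℕ) (y : Y)
    (h : FlatFun.IsFreeOfRankNear F p (g y)) :
    FlatFun.IsFreeOfRankNear ((Scheme.Modules.pullback g).obj F) p y := by
  rw [near_iff] at h ⊢
  obtain ⟨U, hy, hU⟩ := h
  exact ⟨g ⁻¹ᵁ U, hy, (ConsPropLib.isFinLocFreeOfRank_iso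
    (pullIso F (g ∣_ U) U.ι (g ⁻¹ᵁ U).ι g (morphismRestrict_ι g U))).1
    (KRR7.isFinLocFreeOfRank_pullback (g ∣_ U) hU)⟩

theorem near_congr {F F' : X.Modules} (e : F ≅ F') {p : ℕ} {x : X} (h : FlatFun.IsFreeOfRankNear F p x) :
    FlatFun.IsFreeOfRankNear F' p x := by
  obtain ⟨U, hx, ⟨i⟩⟩ := h
  exact ⟨U, hx, ⟨((Scheme.Modules.restrictFunctor U.ι).mapIso e).symm ≪≫ i⟩⟩

theorem isOpen_near (F : X.Modules) (p : ℕ) : IsOpen {x | FlatFun.IsFreeOfRankNear F p x} := by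
  rw [isOpen_iff_forall_mem_open]
  rintro x ⟨U, hx, e⟩
  exact ⟨U, fun z hz => ⟨U, hz, e⟩, U.2, hx⟩

/-- A point of a fibre in an open set is a specialisation of the generic point of the fibre. -/
theorem exists_generic (q : Y ⟶ X) [GeometricallyIrreducible q] (y : Y) :
    ∃ η : Y, q η = q y ∧ FlatFun.IsGenericPtOfFibre q η ∧ η ⤳ y := by
  haveI : IrreducibleSpace ↥(q.fiber (q y)) := inferInstance
  let η := q.fiberι (q y) (genericPoint ↥(q.fiber (q y)))
  have hη : q η = q y := (q.range_fiberι (q y)).le ⟨_, rfl⟩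
  have hspec : ∀ z : Y, q z = q y → η ⤳ z := by
    intro z hz
    obtain ⟨z', rfl⟩ := (q.range_fiberι (q y)).ge (show z ∈ q ⁻¹' {q y} from hz)
    exact (genericPoint_specializes z').map (q.fiberι (q y)).continuous
  exact ⟨η, hη, fun z hz => hspec z (hz.trans hη), hspec y rfl⟩

variable {S : Scheme.{u}} (f : X ⟶ S) [GeometricallyIrreducible f] (F : X.Modules) (p : ℕ)

/-- The points near which the base change of the module is free of rank `p`. -/
def nearSet (T : Over S) : Set ↥(pullback f T.hom) :=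
  {z | FlatFun.IsFreeOfRankNear ((Scheme.Modules.pullback (pullback.fst f T.hom)).obj F) p z}

omit [GeometricallyIrreducible f] in
theorem mem_nearSet_of_map {T T₀ : Over S} (g : T ⟶ T₀) (z : ↥(pullback f T.hom))
    (h : Lim8.bcMap f g z ∈ nearSet f F p T₀) : z ∈ nearSet f F p T :=
  near_congr ((Scheme.Modules.pullbackComp (Lim8.bcMap f g) (pullback.fst f T₀.hom) ≪≫
    Scheme.Modules.pullbackCongr (Lim8.bcMap_fst f g)).app F) (near_pullback _ _ p z h)

theorem exists_near_of_map {T T₀ : Over S} (g : T ⟶ T₀) (t : T.left) (z₀ : ↥(pullback f T₀.hom))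
    (hz : pullback.snd f T₀.hom z₀ = g.left t) (h : z₀ ∈ nearSet f F p T₀) :
    ∃ z, pullback.snd f T.hom z = t ∧ z ∈ nearSet f F p T := by
  have sq := Lim8.bcMap_isPullback f g
  obtain ⟨w, hw1, hw2⟩ := Scheme.Pullback.exists_preimage_pullback (f := pullback.snd f T₀.hom) (g := g.left) z₀ t hz
  refine ⟨sq.isoPullback.inv w, ?_, mem_nearSet_of_map f F p g _ ?_⟩
  · rw [← Scheme.Hom.comp_apply, sq.isoPullback_inv_snd, hw2]
  · rw [← Scheme.Hom.comp_apply, sq.isoPullback_inv_fst, hw1]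
    exact h

theorem freeAtGenericPts_iff (T : Over S) :
    FlatFun.FreeAtGenericPts (PicF.XTproj f T) (FGA.ET f F T) p ↔
      ∀ t : T.left, ∃ z, pullback.snd f T.hom z = t ∧ z ∈ nearSet f F p T := by
  refine ⟨fun h t => let ⟨z, hz, _, hn⟩ := h t; ⟨z, hz, hn⟩, fun h t => ?_⟩
  obtain ⟨z, hz, hn⟩ := h t
  obtain ⟨η, hη, hgen, hspec⟩ := exists_generic (pullback.snd f T.hom) z
  exact ⟨η, hη.trans hz, hgen, hspec.mem_open (isOpen_near _ p) hn⟩

omit [GeometricallyIrreducible f] in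
/-- Freeness near a point of the limit comes from a stage. -/
theorem exists_stage {I : Type u} [SmallCategory I] [IsCofiltered I] (hFP : CohB1.IsFP F)
    (D : I ⥤ Over S) (c : Cone D) (hc : IsLimit ((Over.forget S).mapCone c))
    (hD : ∀ i, IsAffine (D.obj i).left) (x : ↥(pullback f c.pt.hom)) (hx : x ∈ nearSet f F p c.pt) :
    ∃ j, Lim8.bcMap f (c.π.app j) x ∈ nearSet f F p (D.obj j) := by
  obtain ⟨hbc⟩ := Lim8.nonempty_isLimit_bcCone f D c hc
  haveI := Lim8.isAffineHom_bc f D hD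
  haveI : ∀ {i j : I} (g : i ⟶ j), IsAffineHom ((Lim8.bc f D).map g) := fun g => inferInstance
  obtain ⟨U, hxU, hU⟩ := (near_iff _ _ _).1 hx
  obtain ⟨W, hW, hxW, hWU⟩ := exists_isAffineOpen_mem_and_subset hxU
  obtain ⟨i, V, hVc, hV⟩ := exists_preimage_eq (Lim8.bc f D) (Lim8.bcCone f D c) hbc W hW.isCompact
  let E := (Scheme.Modules.pullback (pullback.fst f (D.obj i).hom)).obj F
  let D' := opensDiagram (Lim8.bc f D) i V
  let o : Over i := Over.mk (𝟙 i)
  haveI : CompactSpace ↥(D'.obj o) := isCompact_iff_compactSpace.mp (by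
    show IsCompact (((Lim8.bc f D).map (𝟙 i) ⁻¹ᵁ V : ((Lim8.bc f D).obj i).Opens) : Set ((Lim8.bc f D).obj i))
    rw [(Lim8.bc f D).map_id]
    exact hVc)
  haveI : ∀ (a b : Over i) (g : a ⟶ b), IsAffineHom (D'.map g) := fun a b g => inferInstance
  let F' := (Scheme.Modules.pullback ((opensDiagramι (Lim8.bc f D) i V).app o)).obj E
  have hFq : Coh.IsQCoh F := QCoh.isQCoh_of_isFP hFP
  have hF' : CohB1.IsFP F' :=
    Lim8.isFP_pullback _ (QCoh.isQCoh_pullback _ hFq) (Lim8.isFP_pullback _ hFq hFP)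
  let c' := opensCone (Lim8.bc f D) (Lim8.bcCone f D c) i V
  have hle : (Lim8.bcCone f D c).π.app i ⁻¹ᵁ V ≤ U := hV.trans_le hWU
  have hrank : FlatMod.IsFinLocFreeOfRank p ((Scheme.Modules.pullback (c'.π.app o)).obj F') := by
    refine (ConsPropLib.isFinLocFreeOfRank_iso ?_).2
      (KRR7.isFinLocFreeOfRank_pullback (Scheme.homOfLE _ hle) hU)
    refine (pullIso E (c'.π.app o) ((opensDiagramι (Lim8.bc f D) i V).app o)
      (((Lim8.bcCone f D c).π.app i ⁻¹ᵁ V).ι) ((Lim8.bcCone f D c).π.app i) ?_) ≪≫ ?_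
    · exact Scheme.Hom.resLE_comp_ι _ _
    · refine (Scheme.Modules.pullback _).mapIso ((Scheme.Modules.pullbackComp (Lim8.bcMap f (c.π.app i))
        (pullback.fst f (D.obj i).hom) ≪≫ Scheme.Modules.pullbackCongr (Lim8.bcMap_fst f (c.π.app i))).app F) ≪≫ ?_
      exact ((Scheme.Modules.pullbackComp (Scheme.homOfLE _ hle) U.ι ≪≫
        Scheme.Modules.pullbackCongr (Scheme.homOfLE_ι _ hle)).app _).symm
  obtain ⟨j, φ, hj⟩ := (Lim8.isFinLocFreeOfRank_iff D' c' (isLimitOpensCone _ _ hbc i V) hF' p).1 hrank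
  let O : ((Lim8.bc f D).obj j.left).Opens := (Lim8.bc f D).map j.hom ⁻¹ᵁ V
  refine ⟨j.left, ?_⟩
  have hxO : Lim8.bcMap f (c.π.app j.left) x ∈ O := by
    show (Lim8.bc f D).map j.hom ((Lim8.bcCone f D c).π.app j.left x) ∈ V
    rw [← Scheme.Hom.comp_apply, (Lim8.bcCone f D c).w]
    exact hV.ge hxW
  refine (near_iff _ _ _).2 ⟨O, hxO, (ConsPropLib.isFinLocFreeOfRank_iso ?_).1 hj⟩
  refine pullIso E (D'.map φ) ((opensDiagramι (Lim8.bc f D) i V).app o) O.ι ((Lim8.bc f D).map j.hom) ?_ ≪≫ ?_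
  · have hw : φ.left = j.hom := by simpa [o] using Over.w φ
    refine (Scheme.Hom.resLE_comp_ι _ _).trans ?_
    rw [hw]
  · exact (Scheme.Modules.pullback O.ι).mapIso ((Scheme.Modules.pullbackComp (Lim8.bcMap f (D.map j.hom))
      (pullback.fst f (D.obj i).hom) ≪≫ Scheme.Modules.pullbackCongr (Lim8.bcMap_fst f (D.map j.hom))).app F)

theorem isLimitPreserving [Smooth f] (hFP : CohB1.IsFP F) :
    AlgSp.IsLimitPreserving
      (FlatFun.genPSp S (fun T => FlatFun.FreeAtGenericPts (PicF.XTproj f T) (FGA.ET f F T) p)) := by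
  refine Lim8.isLimitPreserving_genPSp _ (fun T T₀ g h => ?_) ?_
  · rw [freeAtGenericPts_iff] at h ⊢
    intro t
    obtain ⟨z₀, hz₀, hn⟩ := h (g.left t)
    exact exists_near_of_map f F p g t z₀ hz₀ hn
  intro I _ _ D c hc hD h
  classical
  rw [freeAtGenericPts_iff] at h
  simp only [freeAtGenericPts_iff]
  let V : ∀ i, (D.obj i).left.Opens := fun i =>
    ⟨pullback.snd f (D.obj i).hom '' nearSet f F p (D.obj i),
      (pullback.snd f (D.obj i).hom).isOpenMap _ (isOpen_near _ p)⟩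
  have hmono : ∀ {i j : I} (g : i ⟶ j), (D.map g).left ⁻¹ᵁ V j ≤ V i := by
    rintro i j g t ⟨z₀, hn, hz₀⟩
    obtain ⟨z, hz, hzn⟩ := exists_near_of_map f F p (D.map g) t z₀ hz₀ hn
    exact ⟨z, hzn, hz⟩
  haveI : ∀ i, IsAffine ((D ⋙ Over.forget S).obj i) := hD
  haveI : ∀ {i j : I} (g : i ⟶ j), IsAffineHom ((D ⋙ Over.forget S).map g) := fun g =>
    isAffineHom_of_isAffine _
  haveI : CompactSpace ↥c.pt.left := by
    haveI : ∀ i, CompactSpace ↥((D ⋙ Over.forget S).obj i) := fun i => inferInstance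
    exact Scheme.compactSpace_of_isLimit _ _ hc
  choose z hz hzn using h
  choose j hj using fun t => exists_stage f F p hFP D c hc hD (z t) (hzn t)
  have hmem : ∀ t, t ∈ (c.π.app (j t)).left ⁻¹ᵁ V (j t) := fun t => by
    refine ⟨_, hj t, ?_⟩
    exact (congr($(Lim8.bcMap_snd f (c.π.app (j t))) (z t))).trans (congrArg (c.π.app (j t)).left (hz t))
  obtain ⟨s, hs⟩ := CompactSpace.elim_nhds_subcover
    (fun t : c.pt.left => (((c.π.app (j t)).left ⁻¹ᵁ V (j t) : c.pt.left.Opens) : Set c.pt.left))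
    (fun t => (Opens.isOpen _).mem_nhds (hmem t))
  obtain ⟨k, hk⟩ := IsCofiltered.inf_objs_exists (s.image j)
  have hcov : (c.π.app k).left ⁻¹ᵁ V k = ⊤ := by
    refine top_le_iff.1 fun y _ => ?_
    obtain ⟨t, ht, hy⟩ := Set.mem_iUnion₂.1 (hs.ge (Set.mem_univ y))
    obtain ⟨g⟩ := hk (Finset.mem_image_of_mem _ ht)
    refine hmono g ?_
    show (D.map g).left ((c.π.app k).left y) ∈ V _
    rw [← Scheme.Hom.comp_apply, ← Over.comp_left, c.w g]
    exact hy
  haveI : ∀ i, CompactSpace ↥((D ⋙ Over.forget S).obj i) := fun i => inferInstance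
  obtain ⟨l, g, hl⟩ := exists_map_eq_top (D ⋙ Over.forget S) ((Over.forget S).mapCone c) hc (i := k) (V k) hcov
  refine ⟨l, fun t => ?_⟩
  obtain ⟨z', hn', hz'⟩ := hmono g (hl.ge (Set.mem_univ t))
  exact ⟨z', hz', hn'⟩

end Groth.Agent.FreeGenPts
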