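import Groth.Agent.SmoothFree.Irred
import Groth.Agent.ProjLocalFree.Flat
import Groth.Agent.FlatBlow.Main
import Groth.Agent.FreeGenPts.Basic
import Mathlib.RingTheory.Smooth.Flat

/-!
# Charts of a smooth morphism with geometrically irreducible fibres; ideals vanishing at all generic points
-/

set_option autoImplicit false
set_option linter.style.haveILetI false
set_option backward.isDefEq.respectTransparency false
set_option backward.isDefEq.respectTransparency.types false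
attribute [-instance] CategoryTheory.catToReflQuiver

universe u

open CategoryTheory CategoryTheory.Limits AlgebraicGeometry TopologicalSpace

namespace Groth.Agent.FreeGenPts

variable {Y T : Scheme.{u}} (q : Y ⟶ T) [Smooth q] [GeometricallyIrreducible q]

omit [GeometricallyIrreducible q] in
/-- Near a point there is an affine chart surjecting onto a basic open of the given affine. -/
theorem exists_chart (D₀ : T.affineOpens) (y : Y) (hy : q y ∈ D₀.1) :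
    ∃ (h : Γ(T, D₀.1)) (W : Y.affineOpens) (_ : W.1 ≤ q ⁻¹ᵁ T.basicOpen h), y ∈ W.1 ∧
      ∀ t ∈ T.basicOpen h, ∃ w ∈ W.1, q w = t := by
  obtain ⟨_, ⟨W₀, hW₀, rfl⟩, hyW, hWD⟩ :=
    Y.isBasis_affineOpens.exists_subset_of_mem_open (show y ∈ q ⁻¹ᵁ D₀.1 from hy) (q ⁻¹ᵁ D₀.1).2
  obtain ⟨h, hhsub, hyh⟩ := D₀.2.exists_basicOpen_le
    (V := ⟨q '' (W₀ : Set Y) ∩ D₀.1, (q.isOpenMap _ W₀.2).inter D₀.1.2⟩) ⟨q y, ⟨y, hyW, rfl⟩, hy⟩ hy
  refine ⟨h, ⟨W₀ ⊓ q ⁻¹ᵁ T.basicOpen h, ?_⟩, inf_le_right, ⟨hyW, hyh⟩, fun t ht => ?_⟩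
  · have hW₀' : IsAffineOpen W₀ := hW₀
    show IsAffineOpen _
    rw [← Scheme.basicOpen_appLE q W₀ D₀.1 hWD h]
    exact hW₀'.basicOpen _
  · obtain ⟨⟨w, hw, rfl⟩, -⟩ := hhsub ht
    exact ⟨w, ⟨hw, ht⟩, rfl⟩

/-- A chart is smooth with geometrically integral fibres. -/
theorem chart_facts (D : T.affineOpens) (W : Y.affineOpens) (e : W.1 ≤ q ⁻¹ᵁ D.1)
    (hs : ∀ t ∈ D.1, ∃ w ∈ W.1, q w = t) :
    letI := (q.appLE D.1 W.1 e).hom.toAlgebra
    Algebra.Smooth Γ(T, D.1) Γ(Y, W.1) ∧ FlatCA.GeomIntegralFibres Γ(T, D.1) Γ(Y, W.1) := by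
  letI := (q.appLE D.1 W.1 e).hom.toAlgebra
  haveI hsm : Algebra.Smooth Γ(T, D.1) Γ(Y, W.1) := q.smooth_appLE D.2 W.2 e
  refine ⟨hsm, SmoothFree.geomIntegral_of_smooth ?_⟩
  show GeometricallyIrreducible (Spec.map (q.appLE D.1 W.1 e))
  haveI : Surjective (Y.homOfLE e ≫ q ∣_ D.1) := ⟨fun t => by
    obtain ⟨w, hw, hwt⟩ := hs t.1 t.2
    exact ⟨⟨w, hw⟩, D.1.ι.isOpenEmbedding.injective
      ((congr($(morphismRestrict_ι q D.1) (Y.homOfLE e ⟨w, hw⟩))).trans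
        ((congrArg q congr($(Y.homOfLE_ι e) ⟨w, hw⟩)).trans hwt))⟩⟩
  have hcomm : Spec.map (q.appLE D.1 W.1 e) = W.2.isoSpec.inv ≫ (Y.homOfLE e ≫ q ∣_ D.1) ≫ D.2.isoSpec.hom := by
    rw [← cancel_mono D.2.fromSpec, IsAffineOpen.SpecMap_appLE_fromSpec q D.2 W.2 e]
    simp only [Category.assoc]
    rw [show D.2.isoSpec.hom ≫ D.2.fromSpec = D.1.ι by rw [← D.2.isoSpec_inv_ι, Iso.hom_inv_id_assoc]]
    rw [morphismRestrict_ι, Scheme.homOfLE_ι_assoc, IsAffineOpen.isoSpec_inv_ι_assoc]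
  rw [hcomm]
  exact (MorphismProperty.cancel_left_of_respectsIso @GeometricallyIrreducible _ _).2
    ((MorphismProperty.cancel_right_of_respectsIso @GeometricallyIrreducible _ _).2 inferInstance)

/-- An ideal sheaf vanishing near some point of every fibre is zero. -/
theorem eq_bot_of_generic (L : Y.IdealSheafData)
    (h : ∀ t : T, ∃ (z : Y) (V : Y.Opens), q z = t ∧ z ∈ V ∧ ∀ W : Y.affineOpens, W.1 ≤ V → L.ideal W = ⊥) :
    L = ⊥ := by
  refine FittX.eq_of_cover fun y => ?_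
  obtain ⟨_, ⟨D₀, hD₀, rfl⟩, hy, -⟩ :=
    T.isBasis_affineOpens.exists_subset_of_mem_open (Set.mem_univ (q y)) isOpen_univ
  obtain ⟨g, W, e, hyW, hs⟩ := exists_chart q ⟨D₀, hD₀⟩ y hy
  let D : T.affineOpens := ⟨T.basicOpen g, IsAffineOpen.basicOpen hD₀ g⟩
  refine ⟨W, hyW, ?_⟩
  rw [Scheme.IdealSheafData.ideal_bot, Pi.bot_apply, eq_bot_iff]
  intro x hx
  letI := (q.appLE D.1 W.1 e).hom.toAlgebra
  obtain ⟨hsm, hgi⟩ := chart_facts q D W e hs
  suffices ∃ n : ℕ, algebraMap Γ(T, D.1) Γ(Y, W.1) 1 ^ n * x = 0 by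
    obtain ⟨n, hn⟩ := this
    simpa using hn
  refine FlatBlow.exists_pow_mul_eq_zero hgi 1 x fun p hp _ => ?_
  -- the generic point of the fibre over `p`
  let t : T := D.2.fromSpec ⟨p, hp⟩
  have ht : t ∈ D.1 := D.2.range_fromSpec.le ⟨_, rfl⟩
  obtain ⟨z, V, hz, hzV, hV⟩ := h t
  obtain ⟨η, hη, -, hspec⟩ := exists_generic q z
  have hηV : η ∈ V := hspec.mem_open V.2 hzV
  haveI := (RGLib.isPrime_map_and_comap hgi p (S := Γ(Y, W.1))).1
  let P : PrimeSpectrum Γ(Y, W.1) := ⟨p.map (algebraMap Γ(T, D.1) Γ(Y, W.1)), inferInstance⟩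
  have hqP : q (W.2.fromSpec P) = t := by
    refine (congr($(IsAffineOpen.SpecMap_appLE_fromSpec q D.2 W.2 e) P)).symm.trans ?_
    show D.2.fromSpec _ = D.2.fromSpec _
    congr 1
    exact PrimeSpectrum.ext (RGLib.isPrime_map_and_comap hgi p (S := Γ(Y, W.1))).2
  obtain ⟨η₀, hη₀, hgen₀, hspecP⟩ := exists_generic q (W.2.fromSpec P)
  have hWη : η₀ ∈ W.1 := hspecP.mem_open W.1.2 (W.2.range_fromSpec.le ⟨_, rfl⟩)
  have hη₀V : η₀ ∈ V := (hgen₀ η ((hη.trans hz).trans (hη₀.trans hqP).symm)).mem_open V.2 hηV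
  -- `η₀` lies in a basic open of `W` inside `V`
  obtain ⟨s, hsV, hηs⟩ := W.2.exists_basicOpen_le (V := V ⊓ W.1) ⟨η₀, hη₀V, hWη⟩ hWη
  have hPs : (s : Γ(Y, W.1)) ∉ P.asIdeal := by
    intro hs'
    have h1 : η₀ ∈ Y.basicOpen s := hηs
    obtain ⟨Q, hQ⟩ := W.2.range_fromSpec.ge hWη
    rw [← hQ] at h1 hspecP
    have h2 : (Q : PrimeSpectrum Γ(Y, W.1)) ∈ PrimeSpectrum.basicOpen s :=
      (W.2.fromSpec_preimage_basicOpen s).le h1
    refine h2 ?_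
    have hQp : Q.asIdeal.comap (algebraMap Γ(T, D.1) Γ(Y, W.1)) = p := by
      have h3 : D.2.fromSpec (Spec.map (q.appLE D.1 W.1 e) Q) = D.2.fromSpec ⟨p, hp⟩ :=
        (congr($(IsAffineOpen.SpecMap_appLE_fromSpec q D.2 W.2 e) Q)).trans
          ((congrArg q hQ).trans (hη₀.trans hqP))
      exact congrArg PrimeSpectrum.asIdeal (D.2.fromSpec.isOpenEmbedding.injective h3)
    exact (Ideal.map_le_iff_le_comap.2 hQp.ge : P.asIdeal ≤ Q.asIdeal) hs'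
  obtain ⟨n, hn⟩ : ∃ n : ℕ, s ^ n * x = 0 := by
    haveI := W.2.isLocalization_basicOpen s
    have h0 : algebraMap Γ(Y, W.1) Γ(Y, Y.basicOpen s) x = 0 := by
      rw [← Ideal.mem_bot, ← hV (Y.affineBasicOpen s) (fun w hw => (hsV hw).1), ← L.map_ideal_basicOpen W s]
      exact Ideal.mem_map_of_mem _ hx
    obtain ⟨⟨_, n, rfl⟩, hn⟩ := (IsLocalization.map_eq_zero_iff (Submonoid.powers s) _ x).1 h0
    exact ⟨n, hn⟩
  exact ⟨s ^ n, fun hm => hPs (P.isPrime.mem_of_pow_mem n hm), hn⟩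

end Groth.Agent.FreeGenPts
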