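import Groth.Agent.FreeGenPts.FlatDim

/-!
# Flatness in dimensions at least the relative dimension is freeness at the generic points, with bounded rank
-/

set_option autoImplicit false
set_option linter.style.haveILetI false
set_option backward.isDefEq.respectTransparency false
set_option backward.isDefEq.respectTransparency.types false
attribute [-instance] CategoryTheory.catToReflQuiver

universe u

open CategoryTheory CategoryTheory.Limits AlgebraicGeometry TopologicalSpace Opposite TensorProduct IsLocalRing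

namespace Groth.Agent.FreeGenPts

variable {X S : Scheme.{u}}

theorem exists_rank_bound [IsAffine X] (F : X.Modules) (hF : CohB1.IsFP F) :
    ∃ c : ℕ, ∀ {Y : Scheme.{u}} (g : Y ⟶ X) (p : ℕ) (y : Y),
      FlatFun.IsFreeOfRankNear ((Scheme.Modules.pullback g).obj F) p y → p ≤ c := by
  have hFq := QCoh.isQCoh_of_isFP hF
  haveI := QCoh.finitePresentation_of_isFP hF (isAffineOpen_top X)
  obtain ⟨c, s, hs⟩ := Module.Finite.exists_fin (R := Γ(X, ⊤)) (M := Γ(F, ⊤))
  refine ⟨c, fun {Y} g p y h => ?_⟩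
  obtain ⟨hfree, hrank⟩ := stalk_of_near (QCoh.isQCoh_pullback g hFq) h
  letI : Algebra (X.presheaf.stalk (g y)) (Y.presheaf.stalk y) := (g.stalkMap y).hom.toAlgebra
  obtain ⟨e⟩ := QCoh.nonempty_pullStalkEquiv g hFq y
  let x := g y
  letI := QCoh.stalkAlg (X := X) (U := ⊤) (x := x) trivial
  letI := QCoh.stalkModule F (U := ⊤) (x := x) trivial
  haveI := QCoh.isScalarTower_stalk F (U := ⊤) (x := x) trivial
  haveI := QCoh.isLocalization_stalk' (isAffineOpen_top X) (x := x) trivial
  haveI := QCoh.isLocalizedModule_germLin hFq (isAffineOpen_top X) (x := x) trivial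
  have hspan := span_eq_top_of_isLocalizedModule (X.presheaf.stalk x)
    ((isAffineOpen_top X).primeIdealOf ⟨x, trivial⟩).asIdeal.primeCompl (QCoh.germLin F (U := ⊤) (x := x) trivial) hs
  rw [← Set.range_comp] at hspan
  let b : Fin c → Y.presheaf.stalk y ⊗[X.presheaf.stalk x] F.presheaf.stalk x :=
    fun i => (1 : Y.presheaf.stalk y) ⊗ₜ QCoh.germLin F (U := ⊤) (x := x) trivial (s i)
  have hb : Submodule.span (Y.presheaf.stalk y) (Set.range b) = ⊤ := by
    have h1 := congrArg (fun M => M.baseChange (Y.presheaf.stalk y)) hspan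
    simp only [Submodule.baseChange_span, Submodule.baseChange_top, ← Set.range_comp] at h1
    exact h1
  rw [← hrank, e.finrank_eq]
  have h2 := finrank_range_le_card (R := Y.presheaf.stalk y) b
  rw [Set.finrank, hb, finrank_top, Fintype.card_fin] at h2
  exact h2

variable (f : X ⟶ S) (d : ℕ) [SmoothOfRelativeDimension d f] [GeometricallyIrreducible f]

theorem flatInDimGE_iff [IsAffine X] (F : X.Modules) (hF : CohB1.IsFP F) :
    ∃ c : ℕ, ∀ T : Over S,
      (FlatFun.DimFibresLT d (PicF.XTproj f T)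
        {x | ¬ FlatMod.IsFlatOverAt (PicF.XTproj f T) (FGA.ET f F T) x}) ↔
      ∀ t : T.left, ∃ (V : T.left.Opens) (p : ℕ), t ∈ V ∧ p ≤ c ∧
        FlatFun.FreeAtGenericPts (PicF.XTproj f (Over.mk (V.ι ≫ T.hom)))
          (FGA.ET f F (Over.mk (V.ι ≫ T.hom))) p := by
  have hFq := QCoh.isQCoh_of_isFP hF
  haveI : Smooth f := SmoothOfRelativeDimension.smooth d f
  obtain ⟨c, hc⟩ := exists_rank_bound F hF
  refine ⟨c, fun T => ?_⟩
  let q := pullback.snd f T.hom
  let N := (Scheme.Modules.pullback (pullback.fst f T.hom)).obj F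
  have hN : CohB1.IsFP N := RGLib.Lim8.isFP_pullback _ hFq hF
  haveI := smoothOfRelativeDimension_isStableUnderBaseChange d
  haveI : SmoothOfRelativeDimension d q :=
    MorphismProperty.of_isPullback (P := @SmoothOfRelativeDimension d) (IsPullback.of_hasPullback f T.hom) inferInstance
  haveI : Smooth q := SmoothOfRelativeDimension.smooth d q
  show FlatFun.DimFibresLT d q {x | ¬ FlatMod.IsFlatOverAt q N x} ↔ _
  rw [RGLib.GenPSheaf.dimFibresLT_iff]
  constructor
  · intro h t
    obtain ⟨z, hz⟩ := (inferInstance : Surjective q).surj t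
    obtain ⟨η, hη, hgen, -⟩ := exists_generic q z
    have hfl : FlatMod.IsFlatOverAt q N η := by
      by_contra hn
      exact (rd_eq_iff_generic q d η).1 (h η hn) hgen
    obtain ⟨p, hp⟩ := near_of_flatAt_generic q hN hgen hfl
    refine ⟨⟨q '' nearSet f F p T, q.isOpenMap _ (isOpen_near _ p)⟩, p, ⟨η, hp, hη.trans hz⟩,
      hc (pullback.fst f T.hom) p η hp, (freeAtGenericPts_iff f F p _).2 fun t' => ?_⟩
    let V : T.left.Opens := ⟨q '' nearSet f F p T, q.isOpenMap _ (isOpen_near _ p)⟩
    let g : Over.mk (V.ι ≫ T.hom) ⟶ T := Over.homMk V.ι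
    obtain ⟨z₀, hz₀, he⟩ := (show (V.ι t') ∈ V from t'.2)
    exact exists_near_of_map f F p g t' z₀ he hz₀
  · intro h x hx
    refine (rd_eq_iff_generic q d x).2 fun hgen => hx ?_
    obtain ⟨V, p, htV, -, hV⟩ := h (q x)
    let T' : Over S := Over.mk (V.ι ≫ T.hom)
    let g : T' ⟶ T := Over.homMk V.ι
    obtain ⟨z, hz, hn⟩ := (freeAtGenericPts_iff f F p T').1 hV ⟨q x, htV⟩
    haveI : IsOpenImmersion (RGLib.Lim8.bcMap f g) :=
      MorphismProperty.of_isPullback (P := @IsOpenImmersion) (RGLib.Lim8.bcMap_isPullback f g).flip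
        (show IsOpenImmersion V.ι from inferInstance)
    have hn' : RGLib.Lim8.bcMap f g z ∈ nearSet f F p T :=
      near_of_openImmersion _ (near_congr ((Scheme.Modules.pullbackComp (RGLib.Lim8.bcMap f g) (pullback.fst f T.hom) ≪≫
        Scheme.Modules.pullbackCongr (RGLib.Lim8.bcMap_fst f g)).app F).symm hn)
    have hqz : q (RGLib.Lim8.bcMap f g z) = q x := by
      refine (congr($((RGLib.Lim8.bcMap_isPullback f g).w) z)).trans ?_
      exact (congrArg V.ι hz).trans rfl
    exact flatAt_of_near q (QCoh.isQCoh_of_isFP hN) ((hgen _ hqz).mem_open (isOpen_near _ p) hn')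

end Groth.Agent.FreeGenPts
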