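import Groth.Agent.FreeGenPts.Chart
import Groth.Agent.AlgSpDec.SmoothLocDim
import Groth.Agent.RGLib.GenPFlatDim
import Groth.Agent.QCoh.PullStalk
import Groth.Agent.S12050
import Groth.Agent.FlatHens.Chart

/-!
# Flatness in dimensions at least the relative dimension, and freeness at the generic points
-/

set_option autoImplicit false
set_option linter.style.haveILetI false
set_option backward.isDefEq.respectTransparency false
set_option backward.isDefEq.respectTransparency.types false
attribute [-instance] CategoryTheory.catToReflQuiver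

universe u

open CategoryTheory CategoryTheory.Limits AlgebraicGeometry TopologicalSpace Opposite TensorProduct IsLocalRing

namespace Groth.Agent.FreeGenPts

open Groth.Agent.RGLib

/-- A module of finite presentation over a local ring with maximal ideal extended from a subring, flat over that
subring, is free. -/
theorem free_of_flat_of_map_maximal {A R N : Type u} [CommRing A] [IsLocalRing A] [CommRing R] [IsLocalRing R]
    [Algebra A R] [AddCommGroup N] [Module A N] [Module R N] [IsScalarTower A R N] [Module.FinitePresentation R N]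
    [Module.Flat A N] (h : (maximalIdeal A).map (algebraMap A R) = maximalIdeal R) : Module.Free R N := by
  refine Module.free_of_maximalIdeal_rTensor_injective ?_
  let ι : maximalIdeal A →ₗ[A] maximalIdeal R :=
    { toFun := fun a => ⟨algebraMap A R a.1, h ▸ Ideal.mem_map_of_mem _ a.2⟩
      map_add' := fun a b => Subtype.ext (map_add _ _ _)
      map_smul' := fun a b => Subtype.ext (by simp [Algebra.smul_def]) }
  let φ : maximalIdeal A ⊗[A] N →ₗ[A] maximalIdeal R ⊗[R] N :=
    TensorProduct.lift (((TensorProduct.mk R (maximalIdeal R) N).restrictScalars₁₂ A A).comp ι)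
  have hφ : Function.Surjective φ := by
    intro z
    induction z using TensorProduct.induction_on with
    | zero => exact ⟨0, map_zero _⟩
    | add a b ha hb =>
      obtain ⟨a', rfl⟩ := ha
      obtain ⟨b', rfl⟩ := hb
      exact ⟨a' + b', map_add _ _ _⟩
    | tmul m n =>
      obtain ⟨m, hm⟩ := m
      have hm' : m ∈ Submodule.span R (algebraMap A R '' (maximalIdeal A : Set A)) := by
        rw [← h] at hm
        exact hm
      suffices ∀ hm'' : m ∈ maximalIdeal R, (⟨m, hm''⟩ : maximalIdeal R) ⊗ₜ[R] n ∈ Set.range φ from this hm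
      clear hm
      induction hm' using Submodule.span_induction generalizing n with
      | mem x hx =>
        obtain ⟨a, ha, rfl⟩ := hx
        intro _
        exact ⟨(⟨a, ha⟩ : maximalIdeal A) ⊗ₜ n, by simp [φ, ι, TensorProduct.lift.tmul]⟩
      | zero =>
        intro _
        exact ⟨0, by rw [map_zero]; exact (TensorProduct.zero_tmul _ n).symm⟩
      | add x y hx hy h1 h2 =>
        intro _
        have hx' : x ∈ maximalIdeal R := h ▸ hx
        have hy' : y ∈ maximalIdeal R := h ▸ hy
        obtain ⟨a, ha⟩ := h1 n hx'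
        obtain ⟨b, hb⟩ := h2 n hy'
        exact ⟨a + b, by rw [map_add, ha, hb, ← TensorProduct.add_tmul]; rfl⟩
      | smul r x hx h1 =>
        intro _
        have hx' : x ∈ maximalIdeal R := h ▸ hx
        obtain ⟨a, ha⟩ := h1 (r • n) hx'
        exact ⟨a, ha.trans ((TensorProduct.smul_tmul r (⟨x, hx'⟩ : maximalIdeal R) n).symm)⟩
  have hinj : Function.Injective ((maximalIdeal A).subtype.rTensor N) :=
    Module.Flat.rTensor_preserves_injective_linearMap _ Subtype.val_injective
  intro x y hxy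
  obtain ⟨x, rfl⟩ := hφ x
  obtain ⟨y, rfl⟩ := hφ y
  have key : ∀ z, TensorProduct.lid R N ((maximalIdeal R).subtype.rTensor N (φ z)) =
      TensorProduct.lid A N ((maximalIdeal A).subtype.rTensor N z) := by
    intro z
    induction z using TensorProduct.induction_on with
    | zero => simp
    | add a b ha hb => simp only [map_add, ha, hb]
    | tmul a n => simp [φ, ι]
  exact congrArg φ (hinj ((TensorProduct.lid A N).injective ((key x).symm.trans ((congrArg _ hxy).trans (key y)))))

variable {Y T : Scheme.{u}} (q : Y ⟶ T)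

theorem map_maximal_of_generic [Smooth q] [GeometricallyIrreducible q] {η : Y}
    (hη : FlatFun.IsGenericPtOfFibre q η) :
    (maximalIdeal (T.presheaf.stalk (q η))).map (q.stalkMap η).hom = maximalIdeal (Y.presheaf.stalk η) := by
  obtain ⟨_, ⟨D₀, hD₀, rfl⟩, hy, -⟩ :=
    T.isBasis_affineOpens.exists_subset_of_mem_open (Set.mem_univ (q η)) isOpen_univ
  obtain ⟨g, W, e, hyW, hs⟩ := exists_chart q ⟨D₀, hD₀⟩ η hy
  let D : T.affineOpens := ⟨T.basicOpen g, IsAffineOpen.basicOpen hD₀ g⟩
  letI := (q.appLE D.1 W.1 e).hom.toAlgebra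
  obtain ⟨hsm, hgi⟩ := chart_facts q D W e hs
  let p := (D.2.primeIdealOf ⟨q η, e hyW⟩).asIdeal
  let P := (W.2.primeIdealOf ⟨η, hyW⟩).asIdeal
  have hPp : P.comap (algebraMap Γ(T, D.1) Γ(Y, W.1)) = p := congrArg PrimeSpectrum.asIdeal
    (IsAffineOpen.comap_primeIdealOf_appLE D.1 D.2 W.1 W.2 e hyW (f := q))
  obtain ⟨hQ, hQp⟩ := RGLib.isPrime_map_and_comap hgi p (S := Γ(Y, W.1))
  have hP : P = p.map (algebraMap Γ(T, D.1) Γ(Y, W.1)) := by
    refine le_antisymm ?_ (Ideal.map_le_iff_le_comap.2 hPp.ge)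
    obtain ⟨y, hyWm, hyQ⟩ := QCoh.exists_point W.2 ⟨_, hQ⟩
    have hqy : q y = q η := FlatHens.primeIdealOf_injective D.2 (e hyWm) (e hyW)
      ((IsAffineOpen.comap_primeIdealOf_appLE D.1 D.2 W.1 W.2 e hyWm (f := q)).symm.trans
        (PrimeSpectrum.ext (by
          show (W.2.primeIdealOf ⟨y, hyWm⟩).asIdeal.comap _ = p
          rw [hyQ]
          exact hQp)))
    have hsp := hη y hqy
    have hsp' : W.2.fromSpec (W.2.primeIdealOf ⟨η, hyW⟩) ⤳ W.2.fromSpec (W.2.primeIdealOf ⟨y, hyWm⟩) := by
      rw [W.2.fromSpec_primeIdealOf ⟨η, hyW⟩, W.2.fromSpec_primeIdealOf ⟨y, hyWm⟩]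
      exact hsp
    have hsp := W.2.fromSpec.isOpenEmbedding.isInducing.specializes_iff.1 hsp'
    rw [hyQ] at hsp
    exact (PrimeSpectrum.le_iff_specializes _ _).2 hsp
  letI := QCoh.stalkAlg (X := T) (U := D.1) (x := q η) (e hyW)
  letI := QCoh.stalkAlg (X := Y) (U := W.1) (x := η) hyW
  haveI := QCoh.isLocalization_stalk' D.2 (x := q η) (e hyW)
  haveI := QCoh.isLocalization_stalk' W.2 hyW
  rw [← IsLocalization.AtPrime.map_eq_maximalIdeal p (T.presheaf.stalk (q η)),
    ← IsLocalization.AtPrime.map_eq_maximalIdeal P (Y.presheaf.stalk η), hP, Ideal.map_map, Ideal.map_map]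
  congr 1
  refine RingHom.ext fun a => ?_
  show q.stalkMap η (T.presheaf.germ D.1 (q η) (e hyW) a) = Y.presheaf.germ W.1 η hyW (q.appLE D.1 W.1 e a)
  rw [Scheme.Hom.germ_stalkMap_apply q D.1 η (e hyW) a]
  exact (Y.presheaf.germ_res_apply (homOfLE e) η hyW _).symm

theorem finitePresentation_stalk {N : Y.Modules} (hN : CohB1.IsFP N) (y : Y) :
    Module.FinitePresentation (Y.presheaf.stalk y) (N.presheaf.stalk y) := by
  obtain ⟨_, ⟨U, hU, rfl⟩, hy, -⟩ :=
    Y.isBasis_affineOpens.exists_subset_of_mem_open (Set.mem_univ y) isOpen_univ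
  have hU' : IsAffineOpen U := hU
  haveI := QCoh.finitePresentation_of_isFP hN hU'
  letI := QCoh.stalkAlg (X := Y) hy
  letI := QCoh.stalkModule N hy
  haveI := QCoh.isScalarTower_stalk N hy
  haveI := QCoh.isLocalization_stalk' hU' hy
  haveI := QCoh.isLocalizedModule_germLin (QCoh.isQCoh_of_isFP hN) hU' hy
  exact FinitePresentation.of_isBaseChange (QCoh.germLin N hy)
    ((isLocalizedModule_iff_isBaseChange (hU'.primeIdealOf ⟨y, hy⟩).asIdeal.primeCompl (Y.presheaf.stalk y) _).1
      inferInstance)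

theorem stalk_of_near {N : Y.Modules} (hN : Coh.IsQCoh N) {p : ℕ} {y : Y} (h : FlatFun.IsFreeOfRankNear N p y) :
    Module.Free (Y.presheaf.stalk y) (N.presheaf.stalk y) ∧
      Module.finrank (Y.presheaf.stalk y) (N.presheaf.stalk y) = p := by
  obtain ⟨U, hy, ⟨i⟩⟩ := h
  refine ⟨S12050.free_stalk_of_nhd N hN hy i, ?_⟩
  obtain ⟨V, hV, hyV, hle⟩ := exists_isAffineOpen_mem_and_subset (U := U) hy
  obtain ⟨l⟩ := QCoh.free_sections hV hle i
  exact QCoh.finrank_stalk_of_freeChart hV hN l hyV

theorem flatAt_of_near [Flat q] {N : Y.Modules} (hN : Coh.IsQCoh N) {p : ℕ} {y : Y}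
    (h : FlatFun.IsFreeOfRankNear N p y) : FlatMod.IsFlatOverAt q N y := by
  letI : Algebra (T.presheaf.stalk (q y)) (Y.presheaf.stalk y) := (q.stalkMap y).hom.toAlgebra
  letI := FlatMod.moduleStalkOver q N y
  haveI : IsScalarTower (T.presheaf.stalk (q y)) (Y.presheaf.stalk y) (N.presheaf.stalk y) :=
    IsScalarTower.of_algebraMap_smul fun _ _ => rfl
  haveI : Module.Flat (T.presheaf.stalk (q y)) (Y.presheaf.stalk y) := Flat.stalkMap q y
  haveI := (stalk_of_near hN h).1
  exact Module.Flat.trans (T.presheaf.stalk (q y)) (Y.presheaf.stalk y) (N.presheaf.stalk y)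

theorem near_of_flatAt_generic [Smooth q] [GeometricallyIrreducible q] {N : Y.Modules} (hN : CohB1.IsFP N) {η : Y}
    (hη : FlatFun.IsGenericPtOfFibre q η) (h : FlatMod.IsFlatOverAt q N η) :
    ∃ p, FlatFun.IsFreeOfRankNear N p η := by
  letI : Algebra (T.presheaf.stalk (q η)) (Y.presheaf.stalk η) := (q.stalkMap η).hom.toAlgebra
  letI := FlatMod.moduleStalkOver q N η
  haveI : IsScalarTower (T.presheaf.stalk (q η)) (Y.presheaf.stalk η) (N.presheaf.stalk η) :=
    IsScalarTower.of_algebraMap_smul fun _ _ => rfl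
  haveI : Module.Flat (T.presheaf.stalk (q η)) (N.presheaf.stalk η) := h
  haveI := finitePresentation_stalk hN η
  haveI : Module.Free (Y.presheaf.stalk η) (N.presheaf.stalk η) :=
    free_of_flat_of_map_maximal (A := T.presheaf.stalk (q η)) (map_maximal_of_generic q hη)
  obtain ⟨U, n, hU, e⟩ := QCoh.exists_free_nhd_of_free_stalk hN η
  exact ⟨n, U, hU, e⟩

theorem rd_eq_iff_generic (d : ℕ) [SmoothOfRelativeDimension d q] [GeometricallyIrreducible q] (x : Y) :
    haveI : Smooth q := SmoothOfRelativeDimension.smooth d q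
    (FibDim.rd q x < d ↔ ¬ FlatFun.IsGenericPtOfFibre q x) := by
  haveI : Smooth q := SmoothOfRelativeDimension.smooth d q
  obtain ⟨η, hη, hgen, hspec⟩ := exists_generic q x
  have hmax : FibDim.FibMax q η := fun z hz he => (hz.antisymm (hgen z he)).eq
  have hd : FibDim.rd q η = d :=
    CycLib.rd_eq_of_hasRelDim q (AlgSpDec.SmoothLocDim.hasRelDim_of_smoothOfRelativeDimension d q) hmax
  refine ⟨fun hlt hx => ?_, fun hx => ?_⟩
  · have := (hx η hη).antisymm hspec
    rw [this.eq, hd] at hlt
    exact lt_irrefl _ hlt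
  · have hne : η ≠ x := fun e => hx (e ▸ hgen)
    exact hd ▸ FibDim.rd_lt q hspec hne hη

theorem near_of_openImmersion {Y' : Scheme.{u}} (j : Y' ⟶ Y) [IsOpenImmersion j] {N : Y.Modules} {p : ℕ} {z : Y'}
    (h : FlatFun.IsFreeOfRankNear ((Scheme.Modules.pullback j).obj N) p z) :
    FlatFun.IsFreeOfRankNear N p (j z) := by
  rw [near_iff] at h ⊢
  obtain ⟨U, hz, hU⟩ := h
  let a : (U : Scheme.{u}) ⟶ Y := U.ι ≫ j
  have h1 : (a.isoOpensRange.inv ≫ U.ι) ≫ j = a.opensRange.ι := by
    rw [Category.assoc]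
    exact Scheme.Hom.isoOpensRange_inv_comp a
  refine ⟨a.opensRange, ⟨⟨z, hz⟩, rfl⟩, (ConsPropLib.isFinLocFreeOfRank_iso ?_).1
    (KRR7.isFinLocFreeOfRank_pullback a.isoOpensRange.inv hU)⟩
  exact (Scheme.Modules.pullbackComp a.isoOpensRange.inv U.ι).app _ ≪≫
    (Scheme.Modules.pullbackComp (a.isoOpensRange.inv ≫ U.ι) j ≪≫ Scheme.Modules.pullbackCongr h1).app N

end Groth.Agent.FreeGenPts
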