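import Groth.Agent.FreeGenPts.Chart
import Groth.Agent.FittStrat.Rank
import Groth.Agent.GrpSchLib.WeilClosed
import Groth.Agent.BlowUpLib.Glue
import Groth.Agent.BlowSep.Basic
import Groth.Agent.RGLib.GenPSheaf

/-!
# Freeness near the generic points of the fibres is representable by an immersion
-/

set_option autoImplicit false
set_option linter.style.haveILetI false
set_option backward.isDefEq.respectTransparency false
set_option backward.isDefEq.respectTransparency.types false
attribute [-instance] CategoryTheory.catToReflQuiver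

universe u

open CategoryTheory CategoryTheory.Limits AlgebraicGeometry TopologicalSpace Opposite TensorProduct

namespace Groth.Agent.FreeGenPts

open Groth.Agent.RGLib

variable {X S : Scheme.{u}} (f : X ⟶ S)

/-- An ideal sheaf pulled back to zero on an open is zero on the affine opens inside it. -/
theorem ideal_eq_bot_of_comap {Y : Scheme.{u}} {V : Y.Opens} {L : Y.IdealSheafData} (h : L.comap V.ι = ⊥)
    (W : Y.affineOpens) (hW : W.1 ≤ V) : L.ideal W = ⊥ := by
  have := MorLib.IdealFG.eq_of_comap_eq (W := V) (I := L) (J := ⊥)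
    (by rw [h, Scheme.IdealSheafData.comap_bot]) hW
  simpa using this

theorem good_subschemeι_iff (J : X.IdealSheafData) {T : Scheme.{u}} (g : T ⟶ S) :
    GrpSchLib.Good f J.subschemeι g ↔ J.comap (pullback.snd g f) = ⊥ := by
  constructor
  · rintro ⟨l, hl⟩
    rw [← hl, Scheme.IdealSheafData.comap_comp]
    rw [BlowSep.comap_subschemeι_self, Scheme.IdealSheafData.comap_bot]
  · intro h
    have hle : J.subschemeι.ker ≤ (pullback.snd g f).ker := by
      rw [Scheme.IdealSheafData.ker_subschemeι, ← Scheme.IdealSheafData.map_bot (pullback.snd g f)]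
      exact Scheme.IdealSheafData.le_map_iff_comap_le.2 h.le
    exact ⟨IsClosedImmersion.lift J.subschemeι _ hle, IsClosedImmersion.lift_fac _ _ _⟩

theorem comap_iso_eq_bot_iff {A B : Scheme.{u}} (e : A ≅ B) (L : B.IdealSheafData) :
    L.comap e.hom = ⊥ ↔ L = ⊥ := by
  refine ⟨fun h => ?_, fun h => by rw [h, Scheme.IdealSheafData.comap_bot]⟩
  have := congrArg (fun I => Scheme.IdealSheafData.comap I e.inv) h
  rwa [← Scheme.IdealSheafData.comap_comp, e.inv_hom_id, Scheme.IdealSheafData.comap_id,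
    Scheme.IdealSheafData.comap_bot] at this

section Chart

variable [Smooth f] [GeometricallyIrreducible f] (J : X.IdealSheafData)

omit [GeometricallyIrreducible f] [Smooth f] in
theorem comap_fromSpec_eq_bot_iff (W : X.affineOpens) (R : CommRingCat.{u}) (ψ : Γ(X, W.1) ⟶ R) :
    J.comap (Spec.map ψ ≫ W.2.fromSpec) = ⊥ ↔ J.ideal W ≤ RingHom.ker ψ.hom := by
  rw [Scheme.IdealSheafData.comap_comp, BlowUpLib.comap_fromSpec]
  have e : (⊤ : (Spec R).Opens) ≤ Spec.map ψ ⁻¹ᵁ ⊤ := le_top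
  have h1 := ModPairLib.ideal_comap (BlowUpLib.centre (J.ideal W)) (Spec.map ψ) ⟨⊤, isAffineOpen_top _⟩
    ⟨⊤, isAffineOpen_top _⟩ e
  have key : (Spec.map ψ).appLE ⊤ ⊤ e = (Scheme.ΓSpecIso Γ(X, W.1)).hom ≫ ψ ≫ (Scheme.ΓSpecIso R).inv := by
    rw [← Category.assoc, ← Scheme.ΓSpecIso_naturality ψ, Category.assoc, Iso.hom_inv_id, Category.comp_id]
    simp [Scheme.Hom.appLE]
  rw [BlowUpLib.centre_top, key, Ideal.map_map, ← CommRingCat.hom_comp] at h1
  erw [Iso.inv_hom_id_assoc] at h1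
  constructor
  · intro h a ha
    rw [h] at h1
    have h2 := Ideal.mem_map_of_mem (ψ ≫ (Scheme.ΓSpecIso R).inv).hom ha
    rw [← h1, Scheme.IdealSheafData.ideal_bot, Pi.bot_apply, Ideal.mem_bot] at h2
    rw [RingHom.mem_ker]
    exact (Scheme.ΓSpecIso R).commRingCatIsoToRingEquiv.symm.injective (h2.trans (map_zero _).symm)
  · intro h
    refine Scheme.IdealSheafData.ext_of_isAffine ?_
    rw [h1, Scheme.IdealSheafData.ideal_bot, Pi.bot_apply, eq_bot_iff, Ideal.map_le_iff_le_comap]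
    intro a ha
    show (Scheme.ΓSpecIso R).inv (ψ a) ∈ (⊥ : Ideal _)
    rw [show ψ a = 0 from h ha, map_zero]
    exact zero_mem _

omit [GeometricallyIrreducible f] [Smooth f] in
theorem good_charts (D : S.affineOpens) (W : X.affineOpens) (e : W.1 ≤ f ⁻¹ᵁ D.1)
    (C : Type u) [CommRing C] [Algebra Γ(S, D.1) C] :
    letI := (f.appLE D.1 W.1 e).hom.toAlgebra
    (GrpSchLib.Good (W.1.ι ≫ f) (J.comap W.1.ι).subschemeι
        (Spec.map (CommRingCat.ofHom (algebraMap Γ(S, D.1) C)) ≫ D.2.fromSpec) ↔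
      ∀ x ∈ J.ideal W, (1 : C) ⊗ₜ[Γ(S, D.1)] x = 0) := by
  letI := (f.appLE D.1 W.1 e).hom.toAlgebra
  let π' := W.1.ι ≫ f
  let i' := (J.comap W.1.ι).subschemeι
  have hw : Spec.map (f.appLE D.1 W.1 e) ≫ D.2.fromSpec = W.2.isoSpec.inv ≫ π' := by
    rw [IsAffineOpen.SpecMap_appLE_fromSpec f D.2 W.2 e]
    simp only [π']
    rw [IsAffineOpen.isoSpec_inv_ι_assoc]
  let v : Spec (CommRingCat.of Γ(X, W.1)) ⟶ pullback D.2.fromSpec π' :=
    pullback.lift (Spec.map (f.appLE D.1 W.1 e)) W.2.isoSpec.inv hw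
  have hvs : v ≫ pullback.snd D.2.fromSpec π' = W.2.isoSpec.inv := pullback.lift_snd _ _ _
  haveI : IsIso v := by
    refine ⟨pullback.snd D.2.fromSpec π' ≫ W.2.isoSpec.hom, ?_, ?_⟩
    · rw [reassoc_of% hvs, Iso.inv_hom_id]
    · rw [← cancel_mono (pullback.snd D.2.fromSpec π'), Category.assoc, Category.id_comp, hvs, Category.assoc,
        Iso.hom_inv_id, Category.comp_id]
  have h := GrpSchLib.good_iff_charts (π := π') (i := i') D.2.fromSpec (ι := PUnit.{u + 1})
    (fun _ => Γ(X, W.1)) (fun _ => v) (fun _ => pullback.lift_fst _ _ _)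
    (fun x => ⟨PUnit.unit, inv v x, by rw [← Scheme.Hom.comp_apply, IsIso.inv_hom_id]; rfl⟩)
    (fun _ => J.ideal W) (fun _ R ψ => by
      rw [hvs, ← comap_fromSpec_eq_bot_iff J W R ψ, ← W.2.isoSpec_inv_ι, ← Category.assoc,
        Scheme.IdealSheafData.comap_comp]
      constructor
      · rintro ⟨l, hl⟩
        rw [← hl, Scheme.IdealSheafData.comap_comp, BlowSep.comap_subschemeι_self, Scheme.IdealSheafData.comap_bot]
      · intro hbot
        have hle : i'.ker ≤ (Spec.map ψ ≫ W.2.isoSpec.inv).ker := by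
          rw [Scheme.IdealSheafData.ker_subschemeι, ← Scheme.IdealSheafData.map_bot]
          exact Scheme.IdealSheafData.le_map_iff_comap_le.2 hbot.le
        exact ⟨IsClosedImmersion.lift i' _ hle, IsClosedImmersion.lift_fac _ _ _⟩) C
  exact h.trans ⟨fun hh => hh PUnit.unit, fun hh _ => hh⟩

/-- On a chart, testing on the whole of `X` is the same as testing on the chart. -/
theorem good_iff_chart (D : S.affineOpens) (W : X.affineOpens) (e : W.1 ≤ f ⁻¹ᵁ D.1)
    (hs : ∀ t ∈ D.1, ∃ w ∈ W.1, f w = t) {T : Scheme.{u}} (g : T ⟶ S) (hg : Set.range g ⊆ D.1) :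
    GrpSchLib.Good f J.subschemeι g ↔ GrpSchLib.Good (W.1.ι ≫ f) (J.comap W.1.ι).subschemeι g := by
  rw [good_subschemeι_iff, good_subschemeι_iff, ← Scheme.IdealSheafData.comap_comp]
  let m : pullback g (W.1.ι ≫ f) ⟶ pullback g f :=
    pullback.map g (W.1.ι ≫ f) g f (𝟙 T) W.1.ι (𝟙 S) (by simp) (by simp)
  have hm : pullback.snd g (W.1.ι ≫ f) ≫ W.1.ι = m ≫ pullback.snd g f := by simp [m, pullback.map]
  rw [hm, Scheme.IdealSheafData.comap_comp]
  refine ⟨fun h => by rw [h, Scheme.IdealSheafData.comap_bot], fun h => ?_⟩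
  haveI : IsOpenImmersion m := by simp only [m]; infer_instance
  refine eq_bot_of_generic (pullback.fst g f) _ fun t => ?_
  obtain ⟨w, hw, hwt⟩ := hs (g t) (hg ⟨t, rfl⟩)
  obtain ⟨z, hz1, -⟩ := Scheme.Pullback.exists_preimage_pullback (f := g) (g := W.1.ι ≫ f) t ⟨w, hw⟩ hwt.symm
  refine ⟨m z, m.opensRange, ?_, ⟨z, rfl⟩, fun U hU => ?_⟩
  · rw [← Scheme.Hom.comp_apply, show m ≫ pullback.fst g f = pullback.fst g (W.1.ι ≫ f) by simp [m, pullback.map]]
    exact hz1
  · refine ideal_eq_bot_of_comap ?_ U hU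
    have he : m.opensRange.ι = (m.isoOpensRange).inv ≫ m := (Scheme.Hom.isoOpensRange_inv_comp m).symm
    rw [he, Scheme.IdealSheafData.comap_comp, h, Scheme.IdealSheafData.comap_bot]

theorem hasIdeal_chart (D : S.affineOpens) (W : X.affineOpens) (e : W.1 ≤ f ⁻¹ᵁ D.1)
    (hs : ∀ t ∈ D.1, ∃ w ∈ W.1, f w = t) :
    ∃ I : Ideal Γ(S, D.1), GrpSchLib.HasIdeal f J.subschemeι D.2.fromSpec I ∧ ((J.ideal W).FG → I.FG) := by
  letI := (f.appLE D.1 W.1 e).hom.toAlgebra
  obtain ⟨hsm, hgi⟩ := chart_facts f D W e hs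
  haveI : Module.Flat Γ(S, D.1) Γ(X, W.1) := inferInstance
  haveI : Module.Projective Γ(S, D.1) Γ(X, W.1) := ProjLocalFree.projective_of_geomIntegral hgi
  refine ⟨⨆ x : J.ideal W, FlatPure.content (A := Γ(S, D.1)) (x : Γ(X, W.1)), fun C _ φ => ?_, fun hfg => ?_⟩
  · letI : Algebra Γ(S, D.1) C := φ.toAlgebra
    rw [good_iff_chart f J D W e hs _ (fun s hs' => ?_)]
    · rw [show CommRingCat.ofHom φ = CommRingCat.ofHom (algebraMap Γ(S, D.1) C) from rfl, good_charts f J D W e C,
        iSup_le_iff]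
      refine ⟨fun h x => ?_, fun h x hx => ?_⟩
      · have h1 := (FlatPure.one_tmul_eq_zero_iff C (x : Γ(X, W.1))).1 (h x x.2)
        rwa [Ideal.map_eq_bot_iff_le_ker] at h1
      · rw [FlatPure.one_tmul_eq_zero_iff, Ideal.map_eq_bot_iff_le_ker]
        exact h ⟨x, hx⟩
    · obtain ⟨c, rfl⟩ := hs'
      exact D.2.range_fromSpec.le ⟨_, rfl⟩
  · obtain ⟨G, hG⟩ := hfg
    have heq : (⨆ x : J.ideal W, FlatPure.content (A := Γ(S, D.1)) (x : Γ(X, W.1))) =
        ⨆ x : G, FlatPure.content (A := Γ(S, D.1)) (x : Γ(X, W.1)) := by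
      refine le_antisymm (iSup_le fun x => ?_) (iSup_le fun x =>
        le_iSup (fun x : J.ideal W => FlatPure.content (A := Γ(S, D.1)) (x : Γ(X, W.1))) ⟨x.1, hG.le (Submodule.subset_span x.2)⟩)
      have hx : (x : Γ(X, W.1)) ∈ (⨆ x : G, FlatPure.content (A := Γ(S, D.1)) (x : Γ(X, W.1))).map
          (algebraMap Γ(S, D.1) Γ(X, W.1)) := by
        refine (show J.ideal W ≤ _ from ?_) x.2
        rw [← hG, Submodule.span_le]
        exact fun y hy => FlatBlow.mem_map_of_content_le (le_iSup (fun x : G => FlatPure.content (A := Γ(S, D.1)) (x : Γ(X, W.1))) ⟨y, hy⟩)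
      exact FlatBlow.content_le_of_mem_map hx
    rw [heq]
    exact Submodule.fg_iSup _ fun x => FlatPure.content_fg (A := Γ(S, D.1)) (x : Γ(X, W.1))

/-- The closed subscheme over which an ideal sheaf on `X` vanishes. -/
theorem exists_closed : ∃ I : S.IdealSheafData,
    (∀ (T : Scheme.{u}) (g : T ⟶ S), I.comap g = ⊥ ↔ J.comap (pullback.fst f g) = ⊥) ∧
      ((∀ U, (J.ideal U).FG) → ∀ U, (I.ideal U).FG) := by
  have hI : GrpSchLib.HasIdeals f J.subschemeι := by
    intro D
    let s : Set Γ(S, D.1) := {h | ∃ (W : X.affineOpens), W.1 ≤ f ⁻¹ᵁ S.basicOpen h ∧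
      ∀ t ∈ S.basicOpen h, ∃ w ∈ W.1, f w = t}
    refine GrpSchLib.hasIdeal_of_span D.2.fromSpec s ?_ ?_
    · rw [← D.2.self_le_iSup_basicOpen_iff]
      intro t ht
      obtain ⟨y, rfl⟩ := f.surjective t
      obtain ⟨h, W, e, hyW, hs⟩ := exists_chart f D y ht
      exact Opens.mem_iSup.2 ⟨⟨h, W, e, hs⟩, e hyW⟩
    · rintro ⟨h, W, e, hs⟩
      let D' : S.affineOpens := ⟨S.basicOpen h, D.2.basicOpen h⟩
      obtain ⟨I, hI, -⟩ := hasIdeal_chart f J D' W e hs
      haveI := D.2.isLocalization_basicOpen h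
      let ψ : Γ(S, S.basicOpen h) →+* Localization.Away h :=
        (IsLocalization.algEquiv (Submonoid.powers h) Γ(S, S.basicOpen h) (Localization.Away h)).toAlgHom.toRingHom
      have hcomp : Spec.map (CommRingCat.ofHom ψ) ≫ D'.2.fromSpec =
          Spec.map (CommRingCat.ofHom (algebraMap Γ(S, D.1) (Localization.Away h))) ≫ D.2.fromSpec := by
        rw [← IsAffineOpen.map_fromSpec D.2 D'.2 (homOfLE (S.basicOpen_le h)).op, ← Category.assoc,
          ← Spec.map_comp]
        congr 2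
        exact CommRingCat.hom_ext ((IsLocalization.algEquiv (Submonoid.powers h) Γ(S, S.basicOpen h)
          (Localization.Away h)).toAlgHom.comp_algebraMap)
      exact ⟨I.map ψ, hcomp ▸ hI.map ψ⟩
  obtain ⟨Z, z, hz, hfac⟩ := GrpSchLib.exists_weilRestriction hI
  refine ⟨z.ker, fun T g => ?_, fun hJ D => ?_⟩
  · rw [← comap_iso_eq_bot_iff (pullbackSymmetry g f) (J.comap (pullback.fst f g)),
      ← Scheme.IdealSheafData.comap_comp, pullbackSymmetry_hom_comp_fst, ← good_subschemeι_iff, ← hfac T g,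
      eq_bot_iff, ← Scheme.IdealSheafData.le_map_iff_comap_le, Scheme.IdealSheafData.map_bot]
    refine ⟨fun h => ⟨IsClosedImmersion.lift z g h, IsClosedImmersion.lift_fac _ _ _⟩, ?_⟩
    rintro ⟨w, rfl⟩
    exact Scheme.Hom.le_ker_comp _ _
  · refine MorLib.IdealFG.fg_of_cover _ D fun t ht => ?_
    obtain ⟨y, rfl⟩ := f.surjective t
    obtain ⟨h, W, e, hyW, hs⟩ := exists_chart f D y ht
    let D' : S.affineOpens := ⟨S.basicOpen h, D.2.basicOpen h⟩
    obtain ⟨I, hI', hfg⟩ := hasIdeal_chart f J D' W e hs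
    refine ⟨D', e hyW, ?_⟩
    have hu : GrpSchLib.HasIdeal f J.subschemeι D'.2.fromSpec (z.ker.ideal D') := fun C _ φ => by
      rw [← hfac, show RingHom.ker φ = RingHom.ker (CommRingCat.ofHom φ).hom from rfl,
        ← comap_fromSpec_eq_bot_iff z.ker D' (CommRingCat.of C) (CommRingCat.ofHom φ), eq_bot_iff,
        ← Scheme.IdealSheafData.le_map_iff_comap_le, Scheme.IdealSheafData.map_bot]
      refine ⟨fun hw => ?_, fun hle => ⟨IsClosedImmersion.lift z _ hle, IsClosedImmersion.lift_fac _ _ _⟩⟩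
      obtain ⟨w, hw⟩ := hw
      rw [← hw]
      exact Scheme.Hom.le_ker_comp _ _
    rw [hu.unique hI']
    exact hfg (hJ W)

end Chart

section Functor

variable [Smooth f] [GeometricallyIrreducible f] (F : X.Modules) (hq : Coh.IsQCoh F) (hft : CohB1.IsFT F) (p : ℕ)

include hq hft in
theorem comap_lowerIdeal {T : Scheme.{u}} (g : T ⟶ X) :
    (FittStrat.lowerIdeal F p).comap g = FittStrat.lowerIdeal ((Scheme.Modules.pullback g).obj F) p := by
  cases p with
  | zero => simp [FittStrat.lowerIdeal]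
  | succ r => simp [FittStrat.lowerIdeal, FittX.sheafIdeal_comap g hq hft r]

include hq hft in
theorem nearSet_iff (T : Over S) :
    FlatFun.FreeAtGenericPts (PicF.XTproj f T) (FGA.ET f F T) p ↔
      (∀ t : T.left, ∃ z, pullback.snd f T.hom z = t ∧
        pullback.fst f T.hom z ∉ (Fitt.sheafIdeal F p).support) ∧
      (FittStrat.lowerIdeal F p).comap (pullback.fst f T.hom) = ⊥ := by
  rw [freeAtGenericPts_iff]
  set G := (Scheme.Modules.pullback (pullback.fst f T.hom)).obj F with hG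
  have hGq : Coh.IsQCoh G := QCoh.isQCoh_pullback _ hq
  have hGt : CohB1.IsFT G := FittX.isFT_pullback _ hq hft
  have hlow : FittStrat.lowerIdeal G p = (FittStrat.lowerIdeal F p).comap (pullback.fst f T.hom) :=
    (comap_lowerIdeal F hq hft p _).symm
  have hsup : ∀ z, z ∈ (Fitt.sheafIdeal G p).support ↔ pullback.fst f T.hom z ∈ (Fitt.sheafIdeal F p).support := fun z => by
    rw [hG, ← FittX.sheafIdeal_comap _ hq hft, Scheme.IdealSheafData.support_comap]
    rfl
  have hrank : ∀ U : (pullback f T.hom).Opens,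
      FlatMod.IsFinLocFreeOfRank p ((Scheme.Modules.pullback U.ι).obj G) ↔
        (FittStrat.lowerIdeal G p).comap U.ι = ⊥ ∧ (Fitt.sheafIdeal G p).comap U.ι = ⊤ := fun U => by
    rw [FittStrat.isFinLocFreeOfRank_iff_two (QCoh.isQCoh_pullback _ hGq) (FittX.isFT_pullback _ hGq hGt),
      FittX.sheafIdeal_comap U.ι hGq hGt p]
    refine and_congr_left fun _ => ?_
    cases p with
    | zero => simp [FittStrat.lowerIdeal]
    | succ r => simp [FittStrat.lowerIdeal, FittX.sheafIdeal_comap U.ι hGq hGt r]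
  constructor
  · intro h
    refine ⟨fun t => ?_, ?_⟩
    · obtain ⟨z, hz, hn⟩ := h t
      obtain ⟨U, hzU, hU⟩ := (near_iff _ _ _).1 hn
      refine ⟨z, hz, fun hs => ?_⟩
      have h1 : (⟨z, hzU⟩ : U) ∈ ((Fitt.sheafIdeal G p).comap U.ι).support := by
        rw [Scheme.IdealSheafData.support_comap]
        exact (hsup z).2 hs
      rw [((hrank U).1 hU).2, Scheme.IdealSheafData.support_top] at h1
      exact h1
    · rw [← hlow]
      refine eq_bot_of_generic (pullback.snd f T.hom) _ fun t => ?_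
      obtain ⟨z, hz, hn⟩ := h t
      obtain ⟨U, hzU, hU⟩ := (near_iff _ _ _).1 hn
      exact ⟨z, U, hz, hzU, fun W hW => ideal_eq_bot_of_comap ((hrank U).1 hU).1 W hW⟩
  · rintro ⟨hK, hJ⟩ t
    obtain ⟨z, hz, hn⟩ := hK t
    refine ⟨z, hz, (near_iff _ _ _).2 ⟨(Fitt.sheafIdeal G p).support.compl, fun hs => hn ((hsup z).1 hs),
      (hrank _).2 ⟨?_, ?_⟩⟩⟩
    · rw [hlow, hJ, Scheme.IdealSheafData.comap_bot]
    · rw [← Scheme.IdealSheafData.support_eq_bot_iff, eq_bot_iff]
      intro w hw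
      rw [Scheme.IdealSheafData.support_comap] at hw
      exact absurd hw w.2

include hq hft in
theorem freeAtGenericPts_stable {T T₀ : Over S} (g : T ⟶ T₀)
    (h : FlatFun.FreeAtGenericPts (PicF.XTproj f T₀) (FGA.ET f F T₀) p) :
    FlatFun.FreeAtGenericPts (PicF.XTproj f T) (FGA.ET f F T) p := by
  rw [freeAtGenericPts_iff] at h ⊢
  intro t
  obtain ⟨z₀, hz₀, hn⟩ := h (g.left t)
  exact exists_near_of_map f F p g t z₀ hz₀ hn

include hq hft in
theorem exists_immersion : ∃ Z : Over S, IsImmersion Z.hom ∧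
    Nonempty ((FlatFun.genPSp S (fun T => FlatFun.FreeAtGenericPts (PicF.XTproj f T) (FGA.ET f F T) p)).RepresentableBy Z) ∧
    (CohB1.IsFP F → LocallyOfFinitePresentation Z.hom ∧ QuasiCompact Z.hom ∧ QuasiSeparated Z.hom) := by
  obtain ⟨I, hI, hIfg⟩ := exists_closed f (FittStrat.lowerIdeal F p)
  let K := Fitt.sheafIdeal F p
  let O : S.Opens := ⟨f '' (K.support.compl : X.Opens), f.isOpenMap _ (K.support.compl : X.Opens).2⟩
  let Q : Scheme.{u} := (I.subschemeι ⁻¹ᵁ O).toScheme
  let j : Q ⟶ S := (I.subschemeι ⁻¹ᵁ O).ι ≫ I.subschemeι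
  haveI himm : IsImmersion j := inferInstance
  have hfac : ∀ T : Over S, (∃ k : T.left ⟶ Q, k ≫ j = T.hom) ↔
      FlatFun.FreeAtGenericPts (PicF.XTproj f T) (FGA.ET f F T) p := fun T => by
    rw [nearSet_iff f F hq hft p T, ← hI T.left T.hom]
    constructor
    · rintro ⟨k, hk⟩
      refine ⟨fun t => ?_, ?_⟩
      · obtain ⟨x, hx, hxt⟩ : T.hom t ∈ O := by rw [← hk]; exact (k t).2
        obtain ⟨z, hz1, hz2⟩ := Scheme.Pullback.exists_preimage_pullback (f := f) (g := T.hom) x t hxt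
        exact ⟨z, hz2, by rw [hz1]; exact hx⟩
      · rw [← hk, eq_bot_iff, ← Scheme.IdealSheafData.le_map_iff_comap_le, Scheme.IdealSheafData.map_bot]
        calc I = I.subschemeι.ker := (Scheme.IdealSheafData.ker_subschemeι I).symm
          _ ≤ ((k ≫ (I.subschemeι ⁻¹ᵁ O).ι) ≫ I.subschemeι).ker := Scheme.Hom.le_ker_comp _ _
          _ = (k ≫ j).ker := congrArg Scheme.Hom.ker (Category.assoc _ _ _)
    · rintro ⟨h1, h2⟩
      have hle : I.subschemeι.ker ≤ T.hom.ker := by
        rw [Scheme.IdealSheafData.ker_subschemeι, ← Scheme.IdealSheafData.map_bot T.hom]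
        exact Scheme.IdealSheafData.le_map_iff_comap_le.2 h2.le
      refine ⟨IsOpenImmersion.lift (I.subschemeι ⁻¹ᵁ O).ι (IsClosedImmersion.lift I.subschemeι T.hom hle) ?_, ?_⟩
      · rw [Scheme.Opens.range_ι]
        rintro _ ⟨t, rfl⟩
        show I.subschemeι _ ∈ O
        rw [← Scheme.Hom.comp_apply, IsClosedImmersion.lift_fac]
        obtain ⟨z, hz, hn⟩ := h1 t
        exact ⟨pullback.fst f T.hom z, hn, by
          rw [← Scheme.Hom.comp_apply, pullback.condition, Scheme.Hom.comp_apply, hz]⟩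
      · exact (IsOpenImmersion.lift_fac_assoc _ _ _ _).trans (IsClosedImmersion.lift_fac _ _ _)
  refine ⟨Over.mk j, himm, ⟨?_⟩, fun hfp => ?_⟩
  · haveI : ∀ T : Over S, Subsingleton (T ⟶ Over.mk j) := fun T =>
      ⟨fun a b => Over.OverMorphism.ext ((cancel_mono j).1 ((Over.w a).trans (Over.w b).symm))⟩
    let P := fun T : Over S => FlatFun.FreeAtGenericPts (PicF.XTproj f T) (FGA.ET f F T) p
    refine
      { homEquiv := fun {T} =>
          { toFun := fun a => ⟨⟨⟨T, 𝟙 T, (hfac T).1 ⟨a.left, Over.w a⟩⟩⟩⟩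
            invFun := fun x => Over.homMk
              ((hfac T).2 ((FlatFun.genPSp_nonempty_iff_of_stable P
                (fun _ _ g h => freeAtGenericPts_stable f F hq hft p g h) T).1 ⟨x⟩)).choose
              ((hfac T).2 ((FlatFun.genPSp_nonempty_iff_of_stable P
                (fun _ _ g h => freeAtGenericPts_stable f F hq hft p g h) T).1 ⟨x⟩)).choose_spec
            left_inv := fun a => Subsingleton.elim _ _
            right_inv := fun x => (FlatFun.genPSp_subsingleton S P _).allEq _ _ }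
        homEquiv_comp := fun _ _ => (FlatFun.genPSp_subsingleton S P _).allEq _ _ }
  · have hKfg : ∀ U, (K.ideal U).FG := FittX.isFiniteTypeIdeal hfp p
    haveI : LocallyOfFinitePresentation I.subschemeι :=
      MorLib.IdealFG.lfp_subschemeι (hIfg (FittStrat.fg_lowerIdeal hfp p))
    haveI := FittStrat.quasiCompact_opens_ι_compl K hKfg
    haveI : QuasiCompact O.ι := by
      refine quasiCompact_iff_forall_isAffineOpen.2 fun D (hD : IsAffineOpen D) => ?_
      rw [O.ι.isOpenEmbedding.isInducing.isCompact_iff]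
      show IsCompact (O.ι '' (O.ι ⁻¹' D))
      rw [Set.image_preimage_eq_range_inter, Scheme.Opens.range_ι]
      choose h W e hyW hs using fun t : D => exists_chart f ⟨D, hD⟩ (f.surjective t.1).choose
        (by rw [(f.surjective t.1).choose_spec]; exact t.2)
      obtain ⟨s, hcov⟩ := hD.isCompact.elim_finite_subcover (fun t : D => (S.basicOpen (h t) : Set S))
        (fun t => (S.basicOpen _).2) (fun t ht => Set.mem_iUnion.2 ⟨⟨t, ht⟩, by
          have h3 := e ⟨t, ht⟩ (hyW ⟨t, ht⟩)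
          change f _ ∈ S.basicOpen _ at h3
          rwa [(f.surjective t).choose_spec] at h3⟩)
      have heq : (O : Set S) ∩ D = ⋃ t ∈ s, f '' ((K.support.compl : X.Opens) ∩ (W t).1 : Set X) := by
        ext x
        simp only [Set.mem_inter_iff, Set.mem_iUnion, Set.mem_image]
        constructor
        · rintro ⟨⟨y, hy, rfl⟩, hx⟩
          obtain ⟨t, ht, hxt⟩ := Set.mem_iUnion₂.1 (hcov hx)
          obtain ⟨w, hw, hwy⟩ := hs t _ hxt
          obtain ⟨η, hη, hgen, hspec⟩ := exists_generic f y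
          exact ⟨t, ht, η, ⟨hspec.mem_open (K.support.compl : X.Opens).2 hy,
            (hgen w (hwy.trans hη.symm)).mem_open (W t).1.2 hw⟩, hη⟩
        · rintro ⟨t, -, y, ⟨hy, hyW'⟩, rfl⟩
          exact ⟨⟨y, hy, rfl⟩, S.basicOpen_le _ (e t hyW')⟩
      rw [heq]
      refine s.isCompact_biUnion fun t _ => IsCompact.image ?_ f.continuous
      have hc := Scheme.Hom.isCompact_preimage (f := Scheme.Opens.ι (K.support.compl : X.Opens)) (W t).2.isCompact
      have hc' := hc.image (Scheme.Opens.ι (K.support.compl : X.Opens)).continuous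
      rwa [Scheme.Hom.coe_preimage, Set.image_preimage_eq_range_inter, Scheme.Opens.range_ι] at hc'
    haveI : QuasiCompact (I.subschemeι ⁻¹ᵁ O).ι :=
      MorphismProperty.of_isPullback (isPullback_morphismRestrict I.subschemeι O) inferInstance
    exact ⟨inferInstanceAs (LocallyOfFinitePresentation j), inferInstanceAs (QuasiCompact j),
      inferInstanceAs (QuasiSeparated j)⟩

include hq hft in
theorem isSheaf : Presheaf.IsSheaf (QuotSh.J Scheme.fpqcPrecoverage S)
    (FlatFun.genPSp S (fun T => FlatFun.FreeAtGenericPts (PicF.XTproj f T) (FGA.ET f F T) p)) := by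
  refine RGLib.GenPSheaf.isSheaf_genPSp _ (fun T T₀ g h => freeAtGenericPts_stable f F hq hft p g h)
    fun T ι Ti g hflat hsurj hP => ?_
  simp only [nearSet_iff f F hq hft p] at hP ⊢
  refine ⟨fun t => ?_, ?_⟩
  · obtain ⟨i, t', rfl⟩ := hsurj t
    obtain ⟨z', hz', hn⟩ := (hP i).1 t'
    refine ⟨Lim8.bcMap f (g i) z', ?_, ?_⟩
    · exact (congr($(Lim8.bcMap_snd f (g i)) z')).trans (congrArg (g i).left hz')
    · rwa [← Scheme.Hom.comp_apply, Lim8.bcMap_fst]
  · set L := (FittStrat.lowerIdeal F p).comap (pullback.fst f T.hom) with hL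
    have hz : ∀ i, L.comap (Lim8.bcMap f (g i)) = ⊥ := fun i => by
      rw [hL, ← Scheme.IdealSheafData.comap_comp, Lim8.bcMap_fst]
      exact (hP i).2
    refine FittX.eq_of_cover fun y => ?_
    obtain ⟨_, ⟨W, hW, rfl⟩, hyW, -⟩ :=
      (pullback f T.hom).isBasis_affineOpens.exists_subset_of_mem_open (Set.mem_univ y) isOpen_univ
    refine ⟨⟨W, hW⟩, hyW, ?_⟩
    rw [Scheme.IdealSheafData.ideal_bot, Pi.bot_apply, eq_bot_iff]
    intro a ha
    refine Ideal.mem_bot.2 ((pullback f T.hom).IsSheaf.section_ext fun w hw => ?_)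
    obtain ⟨i, t', ht'⟩ := hsurj (pullback.snd f T.hom w)
    obtain ⟨u, hu1, hu2⟩ := Scheme.Pullback.exists_preimage_pullback (f := pullback.snd f T.hom) (g := (g i).left)
      w t' ht'.symm
    have sq := Lim8.bcMap_isPullback f (g i)
    let v := sq.isoPullback.inv u
    have hv : Lim8.bcMap f (g i) v = w := by
      rw [← Scheme.Hom.comp_apply, sq.isoPullback_inv_fst]; exact hu1
    haveI := hflat i
    haveI : Flat (Lim8.bcMap f (g i)) := MorphismProperty.of_isPullback sq.flip (hflat i)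
    obtain ⟨_, ⟨W', hW', rfl⟩, hvW', hW'le⟩ := (pullback f (Ti i).hom).isBasis_affineOpens.exists_subset_of_mem_open
      (show v ∈ Lim8.bcMap f (g i) ⁻¹ᵁ W by rw [Scheme.Hom.mem_preimage, hv]; exact hw) (Lim8.bcMap f (g i) ⁻¹ᵁ W).2
    -- the stalk of `a` dies after a faithfully flat local map
    have h0 : (Lim8.bcMap f (g i)).appLE W W' hW'le a = 0 := by
      have h1 := ModPairLib.ideal_comap L (Lim8.bcMap f (g i)) ⟨W, hW⟩ ⟨W', hW'⟩ hW'le
      rw [hz i, Scheme.IdealSheafData.ideal_bot, Pi.bot_apply] at h1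
      exact Ideal.mem_bot.1 (h1 ▸ Ideal.mem_map_of_mem _ ha)
    have hinj : Function.Injective ((Lim8.bcMap f (g i)).stalkMap v).hom := by
      have hfl : ((Lim8.bcMap f (g i)).stalkMap v).hom.Flat := Flat.stalkMap _ v
      algebraize [((Lim8.bcMap f (g i)).stalkMap v).hom]
      haveI : Module.FaithfullyFlat ((pullback f T.hom).presheaf.stalk (Lim8.bcMap f (g i) v))
          ((pullback f (Ti i).hom).presheaf.stalk v) :=
        @Module.FaithfullyFlat.of_flat_of_isLocalHom _ _ _ _ _ _ _ hfl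
          (inferInstanceAs (IsLocalHom ((Lim8.bcMap f (g i)).stalkMap v).hom))
      exact FaithfulSMul.algebraMap_injective _ _
    have hg0 : (pullback f T.hom).presheaf.germ W (Lim8.bcMap f (g i) v) (hv ▸ hw) a = 0 := by
      refine hinj ?_
      rw [map_zero, Scheme.Hom.germ_stalkMap_apply, ← TopCat.Presheaf.germ_res_apply _ (homOfLE hW'le) v hvW']
      exact (congrArg _ h0).trans (map_zero _)
    obtain ⟨N, hN, _, iN, hres⟩ := (pullback f T.hom).presheaf.germ_eq _ (hv ▸ hw) (hv ▸ hw)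
      a 0 (hg0.trans (map_zero _).symm)
    refine ⟨N, iN.le, hv ▸ hN, ?_⟩
    exact hres.trans ((map_zero _).trans (map_zero _).symm)

end Functor

end Groth.Agent.FreeGenPts
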